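import Groth.Prelude.Def_PicRel2
import Groth.Prelude.Def_PicLoc

/-!
Base change of a representing object of the étale-sheafified relative Picard functor.
-/

set_option autoImplicit false
set_option linter.style.haveILetI false
set_option backward.isDefEq.respectTransparency false
set_option backward.isDefEq.respectTransparency.types false

universe u

open CategoryTheory CategoryTheory.Limits AlgebraicGeometry

noncomputable section

namespace Groth.Agent.PicRelBC

lemma pullCl_comp {A B C : Scheme.{u}} (a : A ⟶ B) (b : B ⟶ C) (c : PicF.Cl C) :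
    PicF.pullCl (a ≫ b) c = PicF.pullCl a (PicF.pullCl b c) :=
  Quot.inductionOn c fun L => Quot.sound ⟨((Scheme.Modules.pullbackComp a b).app L).symm⟩

lemma pullCl_id {A : Scheme.{u}} (c : PicF.Cl A) : PicF.pullCl (𝟙 A) c = c :=
  Quot.inductionOn c fun L => Quot.sound ⟨(Scheme.Modules.pullbackId A).app L⟩

lemma isInvertibleCl_pullCl {A B : Scheme.{u}} (a : A ⟶ B) {c : PicF.Cl B} (h : PicF.IsInvertibleCl c) :
    PicF.IsInvertibleCl (PicF.pullCl a c) := by
  obtain ⟨L, rfl, hL⟩ := h
  exact ⟨_, rfl, PicLoc.isInvertible_pullback a hL⟩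

variable {X S S' : Scheme.{u}} (f : X ⟶ S) (g : S' ⟶ S)

/-- An `S'`-scheme as an `S`-scheme. -/
abbrev bar (T : Over S') : Over S := Over.mk (T.hom ≫ g)

/-- A morphism of `S'`-schemes as a morphism of `S`-schemes. -/
def barMap {T T' : Over S'} (h : T' ⟶ T) : bar g T' ⟶ bar g T :=
  Over.homMk h.left (by
    show h.left ≫ T.hom ≫ g = T'.hom ≫ g
    rw [Over.w_assoc])

/-- The canonical isomorphism `X ×_S T ≅ (X ×_S S') ×_{S'} T`. -/
def eT (T : Over S') : PicF.XT f (bar g T) ≅ PicF.XT (pullback.snd f g) T :=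
  (pullbackLeftPullbackSndIso f g T.hom).symm

@[reassoc]
lemma XTmap_fst {T T' : Over S} (a : T' ⟶ T) :
    PicF.XTmap f a ≫ pullback.fst f T.hom = pullback.fst f T'.hom :=
  (pullback.lift_fst _ _ _).trans (Category.comp_id _)

@[reassoc]
lemma XTmap_snd {T T' : Over S} (a : T' ⟶ T) :
    PicF.XTmap f a ≫ pullback.snd f T.hom = pullback.snd f T'.hom ≫ a.left :=
  pullback.lift_snd _ _ _

lemma eT_fst (T : Over S') : (eT f g T).hom ≫ pullback.fst _ _ ≫ pullback.fst f g =
    pullback.fst f (bar g T).hom :=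
  pullbackLeftPullbackSndIso_inv_fst f g T.hom

lemma eT_fst_snd (T : Over S') : (eT f g T).hom ≫ pullback.fst _ _ ≫ pullback.snd f g =
    pullback.snd f (bar g T).hom ≫ T.hom :=
  pullbackLeftPullbackSndIso_inv_fst_snd f g T.hom

lemma eT_snd (T : Over S') : (eT f g T).hom ≫ pullback.snd (pullback.snd f g) T.hom =
    pullback.snd f (bar g T).hom :=
  pullbackLeftPullbackSndIso_inv_snd_snd f g T.hom

lemma eT_naturality {T T' : Over S'} (h : T' ⟶ T) :
    PicF.XTmap f (barMap g h) ≫ (eT f g T).hom =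
      (eT f g T').hom ≫ PicF.XTmap (pullback.snd f g) h := by
  refine pullback.hom_ext (pullback.hom_ext ?_ ?_) ?_
  · simp only [Category.assoc]
    rw [eT_fst, XTmap_fst_assoc, XTmap_fst, eT_fst]
  · simp only [Category.assoc]
    rw [eT_fst_snd, XTmap_fst_assoc, XTmap_snd_assoc, eT_fst_snd]
    exact congrArg (pullback.snd f (bar g T').hom ≫ ·) (Over.w h)
  · simp only [Category.assoc]
    rw [eT_snd, XTmap_snd, XTmap_snd, ← Category.assoc, eT_snd]
    rfl

lemma XTmap_comp {T T' T'' : Over S} (a : T'' ⟶ T') (b : T' ⟶ T) :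
    PicF.XTmap f (a ≫ b) = PicF.XTmap f a ≫ PicF.XTmap f b := by
  refine pullback.hom_ext ?_ ?_
  · simp [PicF.XTmap]
  · simp [PicF.XTmap]


/-- Base change of representing objects of the relative Picard functor. -/
theorem isRelPic_baseChange (P : Over S) (φ : ∀ T : Over S, PicF.Cl (PicF.XT f T) → (T ⟶ P))
    (hP : PicRel.IsRelPic f P φ) (φ' : ∀ T : Over S', PicF.Cl (PicF.XT (pullback.snd f g) T) →
      (T ⟶ Over.mk (pullback.snd P.hom g)))
    (hfst : ∀ T c, (φ' T c).left ≫ pullback.fst P.hom g =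
      (φ (bar g T) (PicF.pullCl (eT f g T).hom c)).left) :
    PicRel.IsRelPic (pullback.snd f g) (Over.mk (pullback.snd P.hom g)) φ' := by
  have key : ∀ {T : Over S'} (a b : T ⟶ Over.mk (pullback.snd P.hom g)),
      a.left ≫ pullback.fst P.hom g = b.left ≫ pullback.fst P.hom g → a = b := fun a b h =>
    Over.OverMorphism.ext (pullback.hom_ext h ((Over.w a).trans (Over.w b).symm))
  refine ⟨fun T T' h c hc => ?_, fun T G => ?_, fun T c c' hc hc' he => ?_⟩
  · refine key _ _ ?_
    rw [hfst, Over.comp_left, Category.assoc, hfst, ← pullCl_comp, ← eT_naturality, pullCl_comp,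
      hP.natural _ _ _ _ (isInvertibleCl_pullCl _ hc)]
    rfl
  · have hG : (G.left ≫ pullback.fst P.hom g) ≫ P.hom = T.hom ≫ g := by
      rw [Category.assoc, pullback.condition, ← Over.w G]
      simp
    obtain ⟨ι, U, hU, hsec⟩ := hP.locallySurjective (bar g T)
      (Over.homMk (G.left ≫ pullback.fst P.hom g) hG)
    refine ⟨ι, U, hU, fun i => ?_⟩
    obtain ⟨c, hc, hφc⟩ := hsec i
    let w : bar g (PicRel.ovr T (U i)) ⟶ PicRel.ovr (bar g T) (U i) :=
      Over.homMk (𝟙 _) ((Category.id_comp _).trans (Category.assoc _ _ _).symm)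
    refine ⟨PicF.pullCl (eT f g (PicRel.ovr T (U i))).inv (PicF.pullCl (PicF.XTmap f w) c),
      isInvertibleCl_pullCl _ (isInvertibleCl_pullCl _ hc), key _ _ ?_⟩
    rw [hfst, ← pullCl_comp (eT f g (PicRel.ovr T (U i))).hom, Iso.hom_inv_id, pullCl_id, hP.natural _ _ _ _ hc, hφc]
    simp [w, PicRel.ovrHom]
  · have he' : φ (bar g T) (PicF.pullCl (eT f g T).hom c) = φ (bar g T) (PicF.pullCl (eT f g T).hom c') :=
      Over.OverMorphism.ext (by rw [← hfst, ← hfst, he])
    obtain ⟨ι, U, hU, hinj⟩ :=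
      hP.locallyInjective _ _ _ (isInvertibleCl_pullCl _ hc) (isInvertibleCl_pullCl _ hc') he'
    refine ⟨ι, U, hU, fun i => ?_⟩
    let w : bar g (PicRel.ovr T (U i)) ⟶ PicRel.ovr (bar g T) (U i) :=
      Over.homMk (𝟙 _) ((Category.id_comp _).trans (Category.assoc _ _ _).symm)
    have hw : w ≫ PicRel.ovrHom (bar g T) (U i) = barMap g (PicRel.ovrHom T (U i)) :=
      Over.OverMorphism.ext (Category.id_comp _)
    have h1 := congrArg (PicF.pullCl (PicF.XTmap f w)) (hinj i)
    rw [← pullCl_comp (PicF.XTmap f w), ← pullCl_comp (PicF.XTmap f w), ← XTmap_comp, hw,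
      ← pullCl_comp, ← pullCl_comp, eT_naturality, pullCl_comp, pullCl_comp] at h1
    have h2 := congrArg (PicF.pullCl (eT f g (PicRel.ovr T (U i))).inv) h1
    simp only [← pullCl_comp, Iso.inv_hom_id_assoc] at h2
    exact h2

end Groth.Agent.PicRelBC
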